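import Mathlib.Topology.Constructible
import Mathlib.Topology.NoetherianSpace
import Mathlib.Topology.Sober
import Mathlib.Topology.Spectral.Prespectral
import Mathlib.Topology.LocallyClosed

/-!
# Basic facts on constructible sets
-/

universe u v

namespace Groth.Agent.ConstrBasics

open Topology Set TopologicalSpace

variable {X : Type u} [TopologicalSpace X]

/-- A constructible set is a finite union of differences of retrocompact opens. -/
theorem exists_sdiff {s : Set X} (hs : IsConstructible s) :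
    ∃ T : Finset (Set X × Set X), (∀ p ∈ T, IsOpen p.1 ∧ IsRetrocompact p.1 ∧ IsOpen p.2 ∧ IsRetrocompact p.2) ∧
      s = ⋃ p ∈ T, p.1 \ p.2 := by
  classical
  induction s, hs using BooleanSubalgebra.closure_sdiff_sup_induction with
  | isSublattice =>
    exact ⟨fun s hs t ht ↦ ⟨hs.1.union ht.1, hs.2.union ht.2⟩,
      fun s hs t ht ↦ ⟨hs.1.inter ht.1, hs.2.inter_isOpen ht.2 ht.1⟩⟩
  | bot_mem => exact ⟨isOpen_empty, .empty⟩
  | top_mem => exact ⟨isOpen_univ, .univ⟩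
  | sdiff U hU V hV =>
    exact ⟨{(U, V)}, fun p hp => by
      rw [Finset.mem_singleton] at hp; subst hp; exact ⟨hU.1, hU.2, hV.1, hV.2⟩, by simp⟩
  | sup s _ t _ hs ht =>
    obtain ⟨S, hS, rfl⟩ := hs
    obtain ⟨T, hT, rfl⟩ := ht
    exact ⟨S ∪ T, fun p hp => (Finset.mem_union.mp hp).elim (hS p) (hT p),
      (Finset.set_biUnion_union S T (fun p => p.1 \ p.2)).symm⟩

theorem isRetrocompact_of_isConstructible {s : Set X} (hs : IsConstructible s) : IsRetrocompact s := by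
  obtain ⟨T, hT, rfl⟩ := exists_sdiff hs
  refine IsRetrocompact.biUnion T.finite_toSet fun p hp W hW hWo => ?_
  obtain ⟨-, hU, hV, -⟩ := hT p hp
  rw [sdiff_inter_right_comm, sdiff_eq]
  exact (hU hW hWo).inter_right hV.isClosed_compl

theorem isRetrocompact_of_noetherianSpace [NoetherianSpace X] (s : Set X) : IsRetrocompact s :=
  fun _ _ _ => NoetherianSpace.isCompact _

theorem isConstructible_iff_of_noetherianSpace [NoetherianSpace X] (s : Set X) :
    IsConstructible s ↔ ∃ (n : ℕ) (Z : Fin n → Set X), (∀ i, IsLocallyClosed (Z i)) ∧ s = ⋃ i, Z i := by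
  constructor
  · intro hs
    obtain ⟨T, hT, rfl⟩ := exists_sdiff hs
    refine ⟨T.card, fun i => (T.equivFin.symm i : Set X × Set X).1 \ (T.equivFin.symm i : Set X × Set X).2,
      fun i => ?_, ?_⟩
    · obtain ⟨hU, -, hV, -⟩ := hT _ (T.equivFin.symm i).2
      exact ⟨_, _, hU, hV.isClosed_compl, sdiff_eq _ _⟩
    · ext x
      simp only [mem_iUnion]
      exact ⟨fun ⟨p, hp, hx⟩ => ⟨T.equivFin ⟨p, hp⟩, by simpa using hx⟩,
        fun ⟨i, hx⟩ => ⟨_, (T.equivFin.symm i).2, hx⟩⟩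
  · rintro ⟨n, Z, hZ, rfl⟩
    refine IsConstructible.iUnion fun i => ?_
    obtain ⟨U, K, hU, hK, hi⟩ := hZ i
    rw [hi]
    exact ((isRetrocompact_of_noetherianSpace U).isConstructible hU).inter
      ((isRetrocompact_of_noetherianSpace Kᶜ).isConstructible hK.isOpen_compl).of_compl

/-- A constructible set dense in an irreducible closed set contains a nonempty open subset of it. -/
theorem exists_open_of_subset_closure {Y E : Set X} (hY : IsIrreducible Y) (hE : IsConstructible E)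
    (h : Y ⊆ closure (E ∩ Y)) : ∃ U, IsOpen U ∧ (Y ∩ U).Nonempty ∧ Y ∩ U ⊆ E := by
  classical
  obtain ⟨T, hT, rfl⟩ := exists_sdiff hE
  let F : Finset (Set X) := T.image fun p => closure ((p.1 \ p.2) ∩ Y)
  obtain ⟨z, hz, hYz⟩ := isIrreducible_iff_sUnion_isClosed.mp hY F
    (fun z hz => by
      obtain ⟨p, -, rfl⟩ := Finset.mem_image.mp hz
      exact isClosed_closure)
    (by
      refine h.trans ?_
      rw [iUnion₂_inter, Finset.closure_biUnion]
      exact iUnion₂_subset fun p hp =>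
        subset_sUnion_of_mem (Finset.mem_coe.mpr (Finset.mem_image_of_mem _ hp)))
  obtain ⟨p, hp, rfl⟩ := Finset.mem_image.mp hz
  obtain ⟨hU, -, hV, -⟩ := hT p hp
  have hdisj : ∀ x ∈ Y, x ∉ p.2 := fun x hx hxV =>
    (closure_minimal (fun y hy => hy.1.2) hV.isClosed_compl (hYz hx)) hxV
  refine ⟨p.1, hU, ?_, fun x hx => mem_iUnion₂.mpr ⟨p, hp, hx.2, hdisj x hx.1⟩⟩
  obtain ⟨y, hy⟩ := hY.nonempty
  obtain ⟨z, hz'⟩ := closure_nonempty_iff.mp ⟨y, hYz hy⟩
  exact ⟨z, hz'.2, hz'.1.1⟩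

theorem eq_univ_of_directed [NoetherianSpace X] {ι : Type v} [Preorder ι] [IsDirected ι (· ≤ ·)]
    [Nonempty ι] (E : ι → Set X) (hmono : Monotone E) (hE : ∀ a, IsConstructible (E a))
    (hirr : ∀ Y : Set X, IsClosed Y → IsIrreducible Y → ∃ a, Y ⊆ closure (E a ∩ Y)) :
    ∃ a, E a = Set.univ := by
  suffices h : ∀ Y : Closeds X, ∃ a, (Y : Set X) ⊆ E a by
    obtain ⟨a, ha⟩ := h ⊤
    exact ⟨a, univ_subset_iff.mp ha⟩
  intro Y
  induction Y using WellFoundedLT.induction with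
  | ind Y ih =>
    by_cases hne : (Y : Set X).Nonempty
    swap
    · exact ⟨Classical.arbitrary ι, fun x hx => (hne ⟨x, hx⟩).elim⟩
    by_cases hpi : IsPreirreducible (Y : Set X)
    · obtain ⟨a, ha⟩ := hirr Y Y.isClosed ⟨hne, hpi⟩
      obtain ⟨U, hU, ⟨x, hxY, hxU⟩, hUE⟩ := exists_open_of_subset_closure ⟨hne, hpi⟩ (hE a) ha
      let Y' : Closeds X := ⟨(Y : Set X) ∩ Uᶜ, Y.isClosed.inter hU.isClosed_compl⟩
      have hlt : Y' < Y := by
        refine lt_of_le_of_ne (fun y hy => hy.1) fun h => ?_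
        have : x ∈ (Y' : Set X) := h.symm ▸ hxY
        exact this.2 hxU
      obtain ⟨b, hb⟩ := ih Y' hlt
      obtain ⟨c, hac, hbc⟩ := exists_ge_ge a b
      refine ⟨c, fun y hy => ?_⟩
      by_cases hyU : y ∈ U
      · exact hmono hac (hUE ⟨hy, hyU⟩)
      · exact hmono hbc (hb ⟨hy, hyU⟩)
    · rw [isPreirreducible_iff_isClosed_union_isClosed] at hpi
      push Not at hpi
      obtain ⟨z₁, z₂, hz₁, hz₂, hsub, h₁, h₂⟩ := hpi
      let Y₁ : Closeds X := ⟨(Y : Set X) ∩ z₁, Y.isClosed.inter hz₁⟩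
      let Y₂ : Closeds X := ⟨(Y : Set X) ∩ z₂, Y.isClosed.inter hz₂⟩
      obtain ⟨a, ha⟩ := ih Y₁ (lt_of_le_of_ne (fun y hy => hy.1) fun h => h₁ fun y hy => by
        have : y ∈ (Y₁ : Set X) := h.symm ▸ hy
        exact this.2)
      obtain ⟨b, hb⟩ := ih Y₂ (lt_of_le_of_ne (fun y hy => hy.1) fun h => h₂ fun y hy => by
        have : y ∈ (Y₂ : Set X) := h.symm ▸ hy
        exact this.2)
      obtain ⟨c, hac, hbc⟩ := exists_ge_ge a b
      refine ⟨c, fun y hy => ?_⟩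
      rcases hsub hy with h | h
      · exact hmono hac (ha ⟨hy, h⟩)
      · exact hmono hbc (hb ⟨hy, h⟩)

theorem exists_generic_subset_closure [QuasiSober X] {ι : Type v} (E : ι → Set X)
    (hcov : ⋃ a, E a = Set.univ) (Y : Set X) (hY : IsClosed Y) (hYi : IsIrreducible Y) :
    ∃ a, Y ⊆ closure (E a ∩ Y) := by
  obtain ⟨η, hη⟩ := QuasiSober.sober hYi hY
  obtain ⟨a, ha⟩ := mem_iUnion.mp (hcov.symm ▸ mem_univ η)
  refine ⟨a, ?_⟩
  rw [← hη.def]
  exact closure_mono (singleton_subset_iff.mpr ⟨ha, subset_closure (mem_singleton η)⟩)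

/-- Compact opens of a subspace are traces of compact opens, inside any given open. -/
theorem exists_isCompact_isOpen_trace [PrespectralSpace X] {S : Set X} {W : Set S} (hW : IsCompact W)
    (hWo : IsOpen W) {O : Set X} (hO : IsOpen O) (hSO : S ⊆ O) :
    ∃ W' : Set X, IsCompact W' ∧ IsOpen W' ∧ W' ⊆ O ∧ Subtype.val '' W = S ∩ W' := by
  obtain ⟨V, hV, rfl⟩ := isOpen_induced_iff.mp hWo
  have himg : IsCompact (Subtype.val '' (Subtype.val ⁻¹' V : Set S)) := hW.image continuous_subtype_val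
  have hsub : Subtype.val '' (Subtype.val ⁻¹' V : Set S) ⊆ V ∩ O := by
    rintro _ ⟨x, hx, rfl⟩
    exact ⟨hx, hSO x.2⟩
  obtain ⟨W', ⟨h1, h2, h3⟩⟩ :=
    PrespectralSpace.exists_isCompact_and_isOpen_between himg (hV.inter hO) hsub
  refine ⟨W', h1, h2, fun x hx => (h3.2 hx).2, ?_⟩
  rw [Subtype.image_preimage_coe]
  refine subset_antisymm (fun x hx => ⟨hx.1, h3.1 ?_⟩) fun x hx => ⟨hx.1, (h3.2 hx.2).1⟩
  exact ⟨⟨x, hx.1⟩, hx.2, rfl⟩

theorem isConstructible_preimage_val [PrespectralSpace X] {T : Set X} (hT : IsRetrocompact T)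
    {E : Set X} (hE : IsConstructible E) : IsConstructible ((Subtype.val : T → X) ⁻¹' E) := by
  refine hE.preimage continuous_subtype_val fun U hU hUr W hW hWo => ?_
  obtain ⟨W', hW', hW'o, -, hWW'⟩ := exists_isCompact_isOpen_trace hW hWo isOpen_univ (subset_univ _)
  rw [IsEmbedding.subtypeVal.isCompact_iff, image_preimage_inter, hWW', inter_left_comm]
  exact hT (hUr hW' hW'o) (hU.inter hW'o)

theorem isConstructible_image_val [PrespectralSpace X] {E : Set X} (hE : IsConstructible E)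
    {F : Set E} (hF : IsConstructible F) : IsConstructible ((Subtype.val : E → X) '' F) := by
  classical
  have hEr : IsRetrocompact E := isRetrocompact_of_isConstructible hE
  obtain ⟨T, hT, hET⟩ := exists_sdiff hE
  have hpiece : ∀ p ∈ T, IsConstructible ((Subtype.val : E → X) '' F ∩ (p.1 \ p.2)) := by
    intro p hp
    obtain ⟨hU, hUr, hV, hVr⟩ := hT p hp
    have hsub : p.1 \ p.2 ⊆ E := hET ▸ subset_biUnion_of_mem (u := fun p : Set X × Set X => p.1 \ p.2) hp
    let j : (p.1 \ p.2 : Set X) → E := fun x => ⟨x.1, hsub x.2⟩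
    have hj : IsConstructible (j ⁻¹' F) := by
      refine hF.preimage (by fun_prop) fun A hA hAr W hW hWo => ?_
      obtain ⟨W', hW', hW'o, hW'U, hWW'⟩ :=
        exists_isCompact_isOpen_trace hW hWo hU (fun x hx => hx.1)
      have hW'E : IsCompact (Subtype.val ⁻¹' W' : Set E) := by
        rw [IsEmbedding.subtypeVal.isCompact_iff, Subtype.image_preimage_coe]
        exact hEr hW' hW'o
      have hc := ((hAr hW'E (hW'o.preimage continuous_subtype_val)).image continuous_subtype_val).inter_right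
        hV.isClosed_compl
      rw [IsEmbedding.subtypeVal.isCompact_iff]
      convert hc using 1
      ext x
      constructor
      · rintro ⟨y, ⟨hyA, hyW⟩, rfl⟩
        have hy' : (y : X) ∈ (p.1 \ p.2) ∩ W' := hWW' ▸ mem_image_of_mem Subtype.val hyW
        exact ⟨⟨j y, ⟨hyA, hy'.2⟩, rfl⟩, y.2.2⟩
      · rintro ⟨⟨e, ⟨heA, heW⟩, rfl⟩, hxV⟩
        have hx : (e : X) ∈ Subtype.val '' W := by rw [hWW']; exact ⟨⟨hW'U heW, hxV⟩, heW⟩
        obtain ⟨y, hy, hye⟩ := hx
        refine ⟨y, ⟨?_, hy⟩, hye⟩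
        show j y ∈ A
        rwa [show j y = e from Subtype.ext hye]
    let g : (p.1 \ p.2 : Set X) → p.1 := fun x => ⟨x.1, x.2.1⟩
    have hgr : range g = (Subtype.val ⁻¹' p.2 : Set p.1)ᶜ := by
      ext x
      exact ⟨fun ⟨y, hy⟩ => hy ▸ y.2.2, fun hx => ⟨⟨x.1, x.2, hx⟩, rfl⟩⟩
    have hg : IsClosedEmbedding g := by
      refine ⟨IsEmbedding.of_comp (by fun_prop) continuous_subtype_val IsEmbedding.subtypeVal, ?_⟩
      rw [hgr]
      exact (hV.preimage continuous_subtype_val).isClosed_compl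
    have hgc : IsRetrocompact (range g)ᶜ := by
      rw [hgr, compl_compl]
      exact hVr.preimage_of_isOpenEmbedding hU.isOpenEmbedding_subtypeVal
    have h2 := (hj.image_of_isClosedEmbedding hg hgc).image_of_isOpenEmbedding
      hU.isOpenEmbedding_subtypeVal (by simpa using hUr)
    convert h2 using 1
    rw [image_image]
    ext x
    constructor
    · rintro ⟨⟨e, he, rfl⟩, hx⟩
      exact ⟨⟨e, hx⟩, he, rfl⟩
    · rintro ⟨y, hy, rfl⟩
      exact ⟨⟨j y, hy, rfl⟩, y.2⟩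
  have heq : (Subtype.val : E → X) '' F = ⋃ p ∈ T, (Subtype.val : E → X) '' F ∩ (p.1 \ p.2) := by
    rw [← inter_iUnion₂, ← hET, inter_eq_left.mpr (Subtype.coe_image_subset E F)]
  rw [heq]
  exact IsConstructible.biUnion T.finite_toSet hpiece

theorem isConstructible_of_isLocallyClosed [CompactSpace X] [PrespectralSpace X] [QuasiSeparatedSpace X]
    {T : Set X} (hT : IsLocallyClosed T) (hTc : IsCompact T) (hTr : IsRetrocompact Tᶜ) :
    IsConstructible T := by
  obtain ⟨U, K, hU, hK, hTUK⟩ := hT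
  obtain ⟨U', ⟨h1, h2, h3⟩⟩ :=
    PrespectralSpace.exists_isCompact_and_isOpen_between hTc hU (hTUK ▸ inter_subset_left)
  have hD : U' ∩ Tᶜ = U' ∩ Kᶜ := by
    ext x
    refine ⟨fun hx => ⟨hx.1, fun hxK => hx.2 (hTUK ▸ ⟨h3.2 hx.1, hxK⟩)⟩, fun hx => ⟨hx.1, fun hxT => ?_⟩⟩
    rw [hTUK] at hxT
    exact hx.2 hxT.2
  have hDc : IsCompact (U' ∩ Tᶜ) := inter_comm Tᶜ U' ▸ hTr h1 h2
  have hDo : IsOpen (U' ∩ Tᶜ) := hD ▸ h2.inter hK.isOpen_compl
  have hEq : T = U' \ (U' ∩ Tᶜ) := by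
    ext x
    exact ⟨fun hx => ⟨h3.1 hx, fun h => h.2 hx⟩, fun hx => by_contra fun h => hx.2 ⟨hx.1, h⟩⟩
  rw [hEq]
  exact (h1.isConstructible h2).sdiff (hDc.isConstructible hDo)

end Groth.Agent.ConstrBasics

namespace Groth.Agent.ConstrBasics

open Topology Set TopologicalSpace

variable {X : Type u} [TopologicalSpace X]

/-- Neighbourhood criterion on a Noetherian space by Noetherian induction. -/
theorem mem_nhds_of_irreducible [NoetherianSpace X] (x : X) (E : Set X)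
    (h : ∀ Y : Set X, IsClosed Y → IsIrreducible Y → x ∈ Y →
      ∃ U, IsOpen U ∧ (Y ∩ U).Nonempty ∧ Y ∩ U ⊆ E) : E ∈ nhds x := by
  suffices key : ∀ Y : Closeds X, x ∉ closure ((Y : Set X) ∩ Eᶜ) by
    have h1 := key ⊤
    rw [Closeds.coe_top, univ_inter, closure_compl, notMem_compl_iff] at h1
    exact mem_interior_iff_mem_nhds.mp h1
  intro Y
  induction Y using WellFoundedLT.induction with
  | ind Y ih =>
    intro hx
    have hxY : x ∈ (Y : Set X) := closure_minimal inter_subset_left Y.isClosed hx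
    by_cases hpi : IsPreirreducible (Y : Set X)
    · obtain ⟨U, hU, ⟨y, hyY, hyU⟩, hUE⟩ := h Y Y.isClosed ⟨⟨x, hxY⟩, hpi⟩ hxY
      let Y' : Closeds X := ⟨(Y : Set X) ∩ Uᶜ, Y.isClosed.inter hU.isClosed_compl⟩
      have hlt : Y' < Y := lt_of_le_of_ne (fun z hz => hz.1) fun e =>
        (e.symm ▸ hyY : y ∈ (Y' : Set X)).2 hyU
      have hsub' : (Y : Set X) ∩ Eᶜ ⊆ (Y' : Set X) ∩ Eᶜ := fun z hz =>
        ⟨(show z ∈ (Y : Set X) ∩ Uᶜ from ⟨hz.1, fun hzU => hz.2 (hUE ⟨hz.1, hzU⟩)⟩), hz.2⟩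
      exact ih Y' hlt (closure_mono hsub' hx)
    · rw [isPreirreducible_iff_isClosed_union_isClosed] at hpi
      push Not at hpi
      obtain ⟨z₁, z₂, hz₁, hz₂, hsub, h₁, h₂⟩ := hpi
      let Y₁ : Closeds X := ⟨(Y : Set X) ∩ z₁, Y.isClosed.inter hz₁⟩
      let Y₂ : Closeds X := ⟨(Y : Set X) ∩ z₂, Y.isClosed.inter hz₂⟩
      have hl₁ : Y₁ < Y := lt_of_le_of_ne (fun y hy => hy.1) fun e => h₁ fun y hy =>
        (e.symm ▸ hy : y ∈ (Y₁ : Set X)).2
      have hl₂ : Y₂ < Y := lt_of_le_of_ne (fun y hy => hy.1) fun e => h₂ fun y hy =>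
        (e.symm ▸ hy : y ∈ (Y₂ : Set X)).2
      have hx' : x ∈ closure ((Y₁ : Set X) ∩ Eᶜ ∪ (Y₂ : Set X) ∩ Eᶜ) :=
        closure_mono (fun z hz => (hsub hz.1).elim (fun h => Or.inl ⟨⟨hz.1, h⟩, hz.2⟩)
          fun h => Or.inr ⟨⟨hz.1, h⟩, hz.2⟩) hx
      rw [closure_union] at hx'
      exact hx'.elim (ih Y₁ hl₁) (ih Y₂ hl₂)

end Groth.Agent.ConstrBasics
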